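import Mathlib.CategoryTheory.Abelian.Basic
import Mathlib.CategoryTheory.Preadditive.Biproducts
import Mathlib.RingTheory.Artinian.Ring
import Mathlib.RingTheory.LocalRing.Basic
import Mathlib.CategoryTheory.Preadditive.Basic
import Mathlib.LinearAlgebra.Projection
import Mathlib.RingTheory.HopkinsLevitzki
import Mathlib.Logic.Equiv.Fin.Basic

/-!
Krull–Schmidt in an abelian category, for objects with Artinian endomorphism ring.
-/

universe w v

open CategoryTheory CategoryTheory.Limits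

noncomputable section

namespace Groth.Agent.KSchm95

variable {C : Type w} [Category.{v} C] [Abelian C] [HasFiniteBiproducts C]

/-- An indecomposable object. -/
def Indec (A : C) : Prop :=
  ¬ IsZero A ∧ ∀ P Q : C, Nonempty (A ≅ P ⊞ Q) → IsZero P ∨ IsZero Q

/-- A split monomorphism has a complement. -/
def splitIso {A G : C} (i : A ⟶ G) (r : G ⟶ A) (h : i ≫ r = 𝟙 A) : G ≅ A ⊞ kernel r where
  hom := biprod.lift r (kernel.lift r (𝟙 G - r ≫ i) (by simp [Preadditive.sub_comp, h]))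
  inv := biprod.desc i (kernel.ι r)
  hom_inv_id := by simp [biprod.lift_desc]
  inv_hom_id := by
    apply biprod.hom_ext' <;> apply biprod.hom_ext <;>
      simp [← cancel_mono (kernel.ι r), Preadditive.comp_sub, reassoc_of% h, h]

theorem isIso_of_indec {A G : C} (hA : ¬ IsZero A) (hG : Indec G) (i : A ⟶ G) (r : G ⟶ A)
    (h : i ≫ r = 𝟙 A) : IsIso i := by
  have hK : IsZero (kernel r) := (hG.2 _ _ ⟨splitIso i r h⟩).resolve_left hA
  refine ⟨r, h, ?_⟩
  have e : kernel.lift r (𝟙 G - r ≫ i) (by simp [Preadditive.sub_comp, h]) ≫ kernel.ι r = 𝟙 G - r ≫ i :=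
    kernel.lift_ι _ _ _
  rw [hK.eq_zero_of_tgt (kernel.lift r (𝟙 G - r ≫ i) _), zero_comp] at e
  exact (sub_eq_zero.mp e.symm).symm

theorem isNilpotent_or_isUnit {R : Type*} [Ring R] [IsArtinianRing R]
    (hid : ∀ e : R, e * e = e → e = 0 ∨ e = 1) (a : R) : IsNilpotent a ∨ IsUnit a := by
  let f : R →ₗ[R] R := LinearMap.toSpanSingleton R R a
  obtain ⟨n, hn⟩ := Filter.eventually_atTop.mp f.eventually_isCompl_ker_pow_range_pow
  have hc := hn (n + 1) n.le_succ
  have hpow : ∀ (m : ℕ) (x : R), (f ^ m) x = x * a ^ m := by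
    intro m
    induction m with
    | zero => simp
    | succ m ih => intro x; rw [pow_succ', Module.End.mul_apply, ih, pow_succ, ← mul_assoc]; rfl
  obtain ⟨k, hk, e, he, hke⟩ := Submodule.mem_sup.mp
    ((hc.sup_eq_top ▸ Submodule.mem_top) : (1 : R) ∈ LinearMap.ker (f ^ (n + 1)) ⊔ LinearMap.range (f ^ (n + 1)))
  have h1 : e * k = 0 := by
    have hl : e * k ∈ LinearMap.ker (f ^ (n + 1)) := Submodule.smul_mem _ e hk
    have hr : e * k ∈ LinearMap.range (f ^ (n + 1)) := by
      have : e * k = e - e * e := by rw [eq_sub_iff_add_eq, ← mul_add, hke, mul_one]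
      rw [this]
      exact sub_mem he (Submodule.smul_mem _ e he)
    exact (Submodule.mem_bot R).mp (hc.inf_eq_bot ▸ ⟨hl, hr⟩)
  have h2 : e * e = e := by
    have : e * (k + e) = e := by rw [hke, mul_one]
    rwa [mul_add, h1, zero_add] at this
  rcases hid e h2 with rfl | rfl
  · refine Or.inl ⟨n + 1, ?_⟩
    rw [add_zero] at hke
    subst hke
    rwa [LinearMap.mem_ker, hpow, one_mul] at hk
  · refine Or.inr ?_
    obtain ⟨b, hb⟩ := he
    rw [hpow] at hb
    have hleft : (b * a ^ n) * a = 1 := by rw [mul_assoc, ← pow_succ, hb]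
    have hinj : Function.Injective (fun x : R => x * a) := by
      intro x y hxy
      have hz : (x - y) ∈ LinearMap.ker (f ^ (n + 1)) := by
        rw [LinearMap.mem_ker, hpow, sub_mul, sub_eq_zero, pow_succ', ← mul_assoc, ← mul_assoc]
        exact congrArg (· * a ^ n) hxy
      have hz' : (x - y) ∈ LinearMap.range (f ^ (n + 1)) :=
        ⟨(x - y) * b, by rw [hpow, mul_assoc, hb, mul_one]⟩
      exact sub_eq_zero.mp ((Submodule.mem_bot R).mp (hc.inf_eq_bot ▸ ⟨hz, hz'⟩))
    exact ⟨⟨a, b * a ^ n, hinj (by simp [mul_assoc, hleft]), hleft⟩, rfl⟩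

theorem eq_zero_or_one_of_indec {F : C} (hF : Indec F) (e : End F) (he : e * e = e) : e = 0 ∨ e = 1 := by
  have he' : e ≫ e = e := he
  let r : F ⟶ kernel e := kernel.lift e (𝟙 F - End.asHom e) (by simp [Preadditive.sub_comp, End.asHom, he'])
  have h : kernel.ι e ≫ r = 𝟙 _ := by
    rw [← cancel_mono (kernel.ι e), Category.assoc, kernel.lift_ι, Preadditive.comp_sub, kernel.condition]
    simp
  by_cases hK : IsZero (kernel e)
  · right
    have e2 : r ≫ kernel.ι e = 𝟙 F - End.asHom e := kernel.lift_ι _ _ _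
    rw [hK.eq_zero_of_tgt r, zero_comp] at e2
    exact (sub_eq_zero.mp e2.symm).symm
  · left
    have : IsIso (kernel.ι e) := isIso_of_indec hK hF (kernel.ι e) r h
    exact (cancel_epi (kernel.ι e)).mp ((kernel.condition e).trans comp_zero.symm)

theorem isLocalRing_end {F : C} (hF : Indec F) [IsArtinianRing (End F)] : IsLocalRing (End F) := by
  have : Nontrivial (End F) := ⟨⟨1, 0, fun h => hF.1 ((IsZero.iff_id_eq_zero F).mpr h)⟩⟩
  refine IsLocalRing.of_isUnit_or_isUnit_one_sub_self fun a => ?_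
  exact (isNilpotent_or_isUnit (eq_zero_or_one_of_indec hF) a).symm.imp id fun ha => ha.isUnit_one_sub

/-- The endomorphism ring of a retract of an object with Artinian endomorphism ring is Artinian. -/
theorem isArtinianRing_end_of_retract {A F : C} [IsArtinianRing (End F)] (i : A ⟶ F) (p : F ⟶ A)
    (h : i ≫ p = 𝟙 A) : IsArtinianRing (End A) := by
  let G : Submodule (End A) (End A) → Submodule (End F) (End F) := fun I =>
    { carrier := {φ | ∀ s : F ⟶ A, End.of (i ≫ End.asHom φ ≫ s) ∈ I}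
      add_mem' := fun {a b} ha hb s => by
        rw [show End.of (i ≫ End.asHom (a + b) ≫ s) = End.of (i ≫ End.asHom a ≫ s) + End.of (i ≫ End.asHom b ≫ s)
          from (congrArg (i ≫ ·) (Preadditive.add_comp _ _ _ (End.asHom a) (End.asHom b) s)).trans
            (Preadditive.comp_add _ _ _ _ _ _)]
        exact add_mem (ha s) (hb s)
      zero_mem' := fun s => by
        rw [show End.of (i ≫ End.asHom (0 : End F) ≫ s) = (0 : End A) from (congrArg (i ≫ ·) zero_comp).trans comp_zero]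
        exact zero_mem _
      smul_mem' := fun r φ hφ s => by
        have := hφ (End.asHom r ≫ s)
        simpa [End.asHom, End.of, End.mul_def] using this }
  have hG : ∀ I x, x ∈ I ↔ (p ≫ End.asHom x ≫ i : End F) ∈ G I := fun I x => by
    refine ⟨fun hx s => ?_, fun hx => ?_⟩
    · have e : End.of (i ≫ (p ≫ End.asHom x ≫ i) ≫ s) = End.of (i ≫ s) * x := by
        simp [End.asHom, End.of, End.mul_def, reassoc_of% h]
      exact e ▸ I.smul_mem _ hx
    · have := hx p
      simpa [End.asHom, End.of, h, reassoc_of% h] using this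
  rw [IsArtinianRing, isArtinian_iff]
  refine (OrderEmbedding.ofMapLEIff G fun I J => ⟨fun hle x hx => (hG J x).mpr ((SetLike.le_def.mp hle) ((hG I x).mp hx)),
    fun hle φ hφ s => hle (hφ s)⟩).ltEmbedding.isWellFounded.wf

/-- Two finite biproducts as one. -/
def sumIso {n m : ℕ} (f : Fin n → C) (g : Fin m → C) :
    (⨁ f) ⊞ (⨁ g) ≅ ⨁ fun k => Sum.elim f g (finSumFinEquiv.symm k) :=
  { hom := biprod.desc (biproduct.desc fun a => biproduct.ι (Sum.elim f g) (Sum.inl a))
      (biproduct.desc fun b => biproduct.ι (Sum.elim f g) (Sum.inr b))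
    inv := biproduct.desc fun s => match s with
      | Sum.inl a => biproduct.ι f a ≫ biprod.inl
      | Sum.inr b => biproduct.ι g b ≫ biprod.inr
    hom_inv_id := by
      refine biprod.hom_ext' _ _ (biproduct.hom_ext' _ _ fun a => ?_) (biproduct.hom_ext' _ _ fun b => ?_) <;>
        simp only [biprod.inl_desc_assoc, biprod.inr_desc_assoc, biproduct.ι_desc_assoc, Category.comp_id] <;>
        erw [biproduct.ι_desc] <;> rfl
    inv_hom_id := by
      refine biproduct.hom_ext' _ _ fun s => ?_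
      rcases s with a | b <;> erw [biproduct.ι_desc_assoc] <;> simp } ≪≫
    (biproduct.reindex finSumFinEquiv.symm (Sum.elim f g)).symm

theorem exists_decomp_aux {F : C} [IsArtinianRing (End F)] :
    ∀ (I : Submodule (End F) (End F)) (A : C) (i : A ⟶ F) (p : F ⟶ A), i ≫ p = 𝟙 A →
      (∀ φ : End F, φ ∈ I ↔ ∃ ψ : A ⟶ F, End.asHom φ = p ≫ ψ) →
      ∃ (n : ℕ) (Fs : Fin n → C), (∀ k, Indec (Fs k)) ∧ Nonempty (A ≅ ⨁ Fs) := by
  intro I
  induction I using IsArtinian.induction with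
  | hgt I ih =>
  intro A i p h hI
  classical
  by_cases hA : IsZero A
  · exact ⟨0, Fin.elim0, fun k => k.elim0, ⟨hA.iso ((IsZero.iff_id_eq_zero _).mpr (biproduct.hom_ext _ _ fun k => k.elim0))⟩⟩
  by_cases hAi : Indec A
  · exact ⟨1, fun _ => A, fun _ => hAi, ⟨(biproductUniqueIso fun _ : Fin 1 => A).symm⟩⟩
  simp only [Indec, hA, not_false_eq_true, true_and, not_forall, not_or] at hAi
  obtain ⟨P, Q, ⟨e⟩, hP, hQ⟩ := hAi
  have key : ∀ (P' : C) (a : P' ⟶ A) (b : A ⟶ P') (c : A ⟶ A), a ≫ b = 𝟙 P' → a ≫ c = 0 → c ≠ 0 →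
      b ≫ a + c = 𝟙 A → ∃ (n : ℕ) (Fs : Fin n → C), (∀ k, Indec (Fs k)) ∧ Nonempty (P' ≅ ⨁ Fs) := by
    intro P' a b c hab hac hc hsum
    let J : Submodule (End F) (End F) :=
      { carrier := {φ | ∃ ψ : P' ⟶ F, End.asHom φ = (p ≫ b) ≫ ψ}
        add_mem' := by
          rintro x y ⟨ψ, hx⟩ ⟨ψ', hy⟩
          exact ⟨ψ + ψ', by rw [Preadditive.comp_add, ← hx, ← hy]⟩
        zero_mem' := ⟨0, by simp [End.asHom]⟩
        smul_mem' := by
          rintro r x ⟨ψ, hx⟩
          exact ⟨ψ ≫ End.asHom r, by rw [← Category.assoc, ← hx]; rfl⟩ }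
    refine ih J ?_ P' (a ≫ i) (p ≫ b) (by simp [reassoc_of% h, hab]) (fun φ => Iff.rfl)
    refine lt_of_le_of_ne (fun φ ⟨ψ, hψ⟩ => (hI φ).mpr ⟨b ≫ ψ, by rw [hψ, Category.assoc]⟩) fun hJ => hc ?_
    obtain ⟨ψ, hψ⟩ : End.of (p ≫ i) ∈ J := hJ ▸ (hI _).mpr ⟨i, rfl⟩
    have h2 : 𝟙 A = b ≫ ψ ≫ p := by
      have := congrArg (fun x => i ≫ x ≫ p) hψ
      simpa [End.asHom, End.of, reassoc_of% h, h] using this
    have h3 : c = c ≫ b ≫ ψ ≫ p := by rw [← h2, Category.comp_id]
    have h4 : c ≫ b = 0 := by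
      have := congrArg (· ≫ b) hsum
      simpa [Preadditive.add_comp, Category.assoc, hab] using this
    rw [h3, reassoc_of% h4, zero_comp]
  obtain ⟨n, Fs, hFs, ⟨eP⟩⟩ := key P (biprod.inl ≫ e.inv) (e.hom ≫ biprod.fst)
    (e.hom ≫ biprod.snd ≫ biprod.inr ≫ e.inv) (by simp) (by simp) (fun h0 => hQ ((IsZero.iff_id_eq_zero Q).mpr (by
      simpa using congrArg (fun x => (biprod.inr ≫ e.inv) ≫ x ≫ e.hom ≫ biprod.snd) h0))) (by
      rw [Category.assoc, ← Preadditive.comp_add, ← Category.assoc biprod.fst, ← Category.assoc biprod.snd,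
        ← Preadditive.add_comp, biprod.total, Category.id_comp, e.hom_inv_id])
  obtain ⟨m, Gs, hGs, ⟨eQ⟩⟩ := key Q (biprod.inr ≫ e.inv) (e.hom ≫ biprod.snd)
    (e.hom ≫ biprod.fst ≫ biprod.inl ≫ e.inv) (by simp) (by simp) (fun h0 => hP ((IsZero.iff_id_eq_zero P).mpr (by
      simpa using congrArg (fun x => (biprod.inl ≫ e.inv) ≫ x ≫ e.hom ≫ biprod.fst) h0))) (by
      rw [add_comm, Category.assoc, ← Preadditive.comp_add, ← Category.assoc biprod.fst,
        ← Category.assoc biprod.snd, ← Preadditive.add_comp, biprod.total, Category.id_comp, e.hom_inv_id])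
  refine ⟨n + m, _, fun k => ?_, ⟨e ≪≫ biprod.mapIso eP eQ ≪≫ sumIso Fs Gs⟩⟩
  rcases finSumFinEquiv.symm k with a | b
  · exact hFs a
  · exact hGs b

theorem exists_decomp (F : C) [IsArtinianRing (End F)] :
    ∃ (n : ℕ) (Fs : Fin n → C), (∀ k, Indec (Fs k)) ∧ Nonempty (F ≅ ⨁ Fs) :=
  exists_decomp_aux ⊤ F (𝟙 F) (𝟙 F) (Category.id_comp _)
    fun φ => iff_of_true trivial ⟨End.asHom φ, (Category.id_comp _).symm⟩

/-- Splitting off one summand of a finite biproduct. -/
def peelIso {n : ℕ} (f : Fin (n + 1) → C) (j : Fin (n + 1)) :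
    ⨁ f ≅ f j ⊞ ⨁ (fun k => f (j.succAbove k)) where
  hom := biprod.lift (biproduct.π f j) (biproduct.lift fun k => biproduct.π f (j.succAbove k))
  inv := biprod.desc (biproduct.ι f j) (biproduct.desc fun k => biproduct.ι f (j.succAbove k))
  hom_inv_id := by
    rw [biprod.lift_desc, biproduct.lift_desc, ← biproduct.total]
    exact (Fin.sum_univ_succAbove (fun i => biproduct.π f i ≫ biproduct.ι f i) j).symm
  inv_hom_id := by
    have hne : ∀ a b, a ≠ b → biproduct.ι f a ≫ biproduct.π f b = 0 := fun a b h => biproduct.ι_π_ne f h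
    refine biprod.hom_ext' _ _ ?_ (biproduct.hom_ext' _ _ fun a => ?_)
    · apply biprod.hom_ext
      · simp
      · ext b; simp [hne _ _ (Fin.succAbove_ne j b).symm]
    · apply biprod.hom_ext
      · simp [hne _ _ (Fin.succAbove_ne j a)]
      · ext b
        rcases eq_or_ne a b with rfl | hab
        · simp
        · simp [hne _ _ (fun h => hab (Fin.succAbove_right_injective h)), biproduct.ι_π_ne _ hab]

/-- Exchange: a summand with local endomorphism ring is one of the summands of another decomposition. -/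
theorem exists_equiv : ∀ (n m : ℕ) (Fs : Fin n → C) (Gs : Fin m → C), (∀ i, Indec (Fs i)) →
    (∀ i, IsArtinianRing (End (Fs i))) → (∀ j, Indec (Gs j)) → ((⨁ Fs) ≅ (⨁ Gs)) →
    ∃ e : Fin n ≃ Fin m, ∀ i, Nonempty (Fs i ≅ Gs (e i)) := by
  intro n
  induction n with
  | zero =>
    intro m Fs Gs _ _ hG φ
    obtain _ | m := m
    · exact ⟨Equiv.refl _, fun i => i.elim0⟩
    · refine absurd ((IsZero.iff_id_eq_zero (Gs 0)).mpr ?_) (hG 0).1
      have h0 : 𝟙 (⨁ Gs) = 0 := by
        rw [← φ.inv_hom_id]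
        have : φ.hom = 0 := biproduct.hom_ext' _ _ fun k => k.elim0
        rw [this, comp_zero]
      simpa using congrArg (fun x => biproduct.ι Gs 0 ≫ x ≫ biproduct.π Gs 0) h0
  | succ n ih =>
    intro m Fs Gs hF hA hG φ
    have := hA 0
    have := isLocalRing_end (hF 0)
    let a : ∀ j, Fs 0 ⟶ Gs j := fun j => biproduct.ι Fs 0 ≫ φ.hom ≫ biproduct.π Gs j
    let b : ∀ j, Gs j ⟶ Fs 0 := fun j => biproduct.ι Gs j ≫ φ.inv ≫ biproduct.π Fs 0
    have hsum : (∑ j, End.of (a j ≫ b j)) = 1 := by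
      show (∑ j, a j ≫ b j) = 𝟙 (Fs 0)
      simp only [a, b, Category.assoc]
      simp only [← Preadditive.comp_sum]
      rw [show (∑ j, biproduct.π Gs j ≫ biproduct.ι Gs j ≫ φ.inv ≫ biproduct.π Fs 0) =
        (∑ j, biproduct.π Gs j ≫ biproduct.ι Gs j) ≫ φ.inv ≫ biproduct.π Fs 0 by
          simp only [Preadditive.sum_comp, Category.assoc]]
      rw [biproduct.total, Category.id_comp, φ.hom_inv_id_assoc, biproduct.ι_π_self]
    obtain ⟨j, hj⟩ : ∃ j, IsUnit (End.of (a j ≫ b j)) := by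
      by_contra hno
      push Not at hno
      have : (∑ j, End.of (a j ≫ b j)) ∈ nonunits (End (Fs 0)) :=
        Finset.sum_induction _ (· ∈ nonunits (End (Fs 0))) (fun x y hx hy hxy =>
          (IsLocalRing.isUnit_or_isUnit_of_isUnit_add hxy).elim hx hy) not_isUnit_zero fun j _ => hno j
      exact this (hsum ▸ isUnit_one)
    rw [isUnit_iff_isIso] at hj
    have : IsIso (a j ≫ b j) := hj
    have : IsIso (a j) := isIso_of_indec (hF 0).1 (hG j) (a j) (b j ≫ inv (a j ≫ b j))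
      (by rw [← Category.assoc, IsIso.hom_inv_id])
    obtain _ | m := m
    · exact j.elim0
    let ψ : Fs 0 ⊞ (⨁ fun k => Fs (Fin.succAbove 0 k)) ≅ Gs j ⊞ (⨁ fun k => Gs (j.succAbove k)) :=
      (peelIso Fs 0).symm ≪≫ φ ≪≫ peelIso Gs j
    have : IsIso (biprod.inl ≫ ψ.hom ≫ biprod.fst) := by
      have e : biprod.inl ≫ ψ.hom ≫ biprod.fst = a j := by simp [ψ, peelIso, a]
      rw [e]; infer_instance
    obtain ⟨e, he⟩ := ih m _ _ (fun k => hF _) (fun k => hA _) (fun k => hG _) (Biprod.isoElim ψ)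
    refine ⟨(finSuccEquiv' 0).trans ((Equiv.optionCongr e).trans (finSuccEquiv' j).symm), fun i => ?_⟩
    rcases Fin.eq_self_or_eq_succAbove (0 : Fin (n + 1)) i with rfl | ⟨k, rfl⟩
    · simpa using Nonempty.intro (asIso (a j))
    · simpa [finSuccEquiv'_succAbove, finSuccEquiv'_zero] using he k

theorem exists_equiv_of_iso {F : C} [IsArtinianRing (End F)] {n m : ℕ} (Fs : Fin n → C) (Gs : Fin m → C)
    (hF : ∀ i, Indec (Fs i)) (hG : ∀ j, Indec (Gs j)) (e : F ≅ ⨁ Fs) (e' : F ≅ ⨁ Gs) :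
    ∃ σ : Fin n ≃ Fin m, ∀ i, Nonempty (Fs i ≅ Gs (σ i)) :=
  exists_equiv n m Fs Gs hF
    (fun i => isArtinianRing_end_of_retract (biproduct.ι Fs i ≫ e.inv) (e.hom ≫ biproduct.π Fs i) (by simp))
    hG (e.symm ≪≫ e')

end Groth.Agent.KSchm95

end
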