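import Groth.Agent.KSchm95.Modules
import Groth.Agent.QC70.DevissageAux

/-!
Coherence of binary sums, and the local endomorphism ring of an indecomposable coherent module.
-/

universe u

open CategoryTheory CategoryTheory.Limits AlgebraicGeometry TopologicalSpace

noncomputable section

namespace Groth.Agent.KSchm95

variable {X : Scheme.{u}}

theorem isCoh_biprod {A B : X.Modules} (hA : Coh.IsCoh A) (hB : Coh.IsCoh B) : Coh.IsCoh (A ⊞ B) :=
  QC70.isCoh_X₂ (ShortComplex.mk (biprod.inl : A ⟶ A ⊞ B) biprod.snd (by simp))
    (ShortComplex.Splitting.shortExact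
      { r := biprod.fst, s := biprod.inr, f_r := by simp, s_g := by simp, id := biprod.total }) hA hB

theorem isLocalRing_end_of_isCoh {k : Type u} [Field k] [X.Over (Spec (CommRingCat.of k))]
    [IsProper (X ↘ Spec (CommRingCat.of k))] {F : X.Modules} (hF : Coh.IsCoh F) (hi : Indec F) :
    IsLocalRing (End F) := by
  have := isArtinianRing_end (k := k) F hF
  have : HasFiniteBiproducts X.Modules := HasFiniteBiproducts.of_hasFiniteProducts
  exact isLocalRing_end hi

theorem isIso_or_isIso_of_add {F : X.Modules} [IsLocalRing (End F)] (f g : F ⟶ F)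
    (h : IsIso (f + g)) : IsIso f ∨ IsIso g := by
  rcases IsLocalRing.isUnit_or_isUnit_of_isUnit_add (a := End.of f) (b := End.of g)
    ((isUnit_iff_isIso _).mpr h) with h | h
  · exact Or.inl ((isUnit_iff_isIso _).mp h)
  · exact Or.inr ((isUnit_iff_isIso _).mp h)

end Groth.Agent.KSchm95

end
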