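import Groth.Agent.Mum71.BaseChange
import Groth.Agent.QC70.HomCoh
import Groth.Agent.QC70.CohOps
import Groth.Agent.QC70.Vanish
import Groth.Agent.LimTop61.ModStage
import Groth.Agent.QCPull72.Sections
import Mathlib.LinearAlgebra.Basis.VectorSpace

/-!
Morphisms between base changes of modules along a field extension: contraction by linear forms and expansion of
a factorisation of a base-changed endomorphism.
-/

set_option autoImplicit false
set_option maxSynthPendingDepth 6
set_option synthInstance.maxHeartbeats 200000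
set_option linter.style.haveILetI false
set_option backward.isDefEq.respectTransparency.types false

universe u

noncomputable section

open CategoryTheory CategoryTheory.Limits AlgebraicGeometry TopologicalSpace Opposite TensorProduct

namespace Groth.Agent.KSchm95

open Coh69 CechComp71 QC70 QCPull72 FF71 Mum71

variable {k : Type u} [Field k] {X : Scheme.{u}} [X.Over (Spec (CommRingCat.of k))]
variable (B : Type u) [CommRing B] [Algebra k B]

lemma algebraMap_smul_eq {F : X.Modules} {V : X.Opens} (r : k) (x : Γ(F, V)) : r • x = rA k X V r • x := rfl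

/-- Multiplication by a function, linear over the ground field. -/
def smulLin (F : X.Modules) {V : X.Opens} (a : Γ(X, V)) : Γ(F, V) →ₗ[k] Γ(F, V) where
  toFun x := a • x
  map_add' := smul_add a
  map_smul' r x := by
    simp only [algebraMap_smul_eq, RingHom.id_apply, smul_smul, mul_comm]

/-- Restriction, linear over the ground field. -/
def resLin (F : X.Modules) {V W : X.Opens} (h : W ≤ V) : Γ(F, V) →ₗ[k] Γ(F, W) where
  toFun := res F h
  map_add' := res_add h
  map_smul' r x := by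
    simp only [algebraMap_smul_eq, RingHom.id_apply]
    rw [res_smul, resO_rA]

variable (G : X.Modules)

theorem bcMap_smul {V : X.Opens} (hV : IsAffineOpen V) (a : Γ(X, V)) (z : Γ(G, V) ⊗[k] B) :
    bcMap G B hV rfl ((smulLin G a).rTensor B z) =
      (bcπ k X B).appLE V (bcπ k X B ⁻¹ᵁ V) le_rfl a • bcMap G B hV rfl z := by
  induction z using TensorProduct.induction_on with
  | zero => simp only [map_zero, smul_zero]
  | add x y hx hy => simp only [map_add, hx, hy, smul_add]
  | tmul x b =>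
    rw [LinearMap.rTensor_tmul, bcMap_tmul, bcMap_tmul, smul_comm]
    exact congrArg _ (LimTop61.unitSec_smul (bcπ k X B) G le_rfl a x)

theorem bcMap_res {V W : X.Opens} (hV : IsAffineOpen V) (hW : IsAffineOpen W) (h : W ≤ V)
    (z : Γ(G, V) ⊗[k] B) :
    bcMap G B hW rfl ((resLin G h).rTensor B z) =
      res (bcMod (A := k) G B) ((bcπ k X B).preimage_mono h) (bcMap G B hV rfl z) := by
  induction z using TensorProduct.induction_on with
  | zero => simp only [map_zero, res_zero]
  | add x y hx hy => simp only [map_add, hx, hy, res_add]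
  | tmul x b =>
    rw [LinearMap.rTensor_tmul, bcMap_tmul, bcMap_tmul, res_smul, resO_rA]
    exact congrArg _ (LimTop61.unitSec_res (bcπ k X B) G le_rfl le_rfl h ((bcπ k X B).preimage_mono h) x)

variable [G.IsQuasicoherent]

/-- Sections of the base change as a tensor product. -/
def bcEquiv {V : X.Opens} (hV : IsAffineOpen V) :
    Γ(G, V) ⊗[k] B ≃+ Γ(bcMod (A := k) G B, bcπ k X B ⁻¹ᵁ V) :=
  AddEquiv.ofBijective (bcMap G B hV rfl) (bcMap_bijective G B hV rfl)

theorem bcEquiv_symm_smul {V : X.Opens} (hV : IsAffineOpen V) (a : Γ(X, V))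
    (y : Γ(bcMod (A := k) G B, bcπ k X B ⁻¹ᵁ V)) :
    (bcEquiv B G hV).symm ((bcπ k X B).appLE V (bcπ k X B ⁻¹ᵁ V) le_rfl a • y) =
      (smulLin G a).rTensor B ((bcEquiv B G hV).symm y) := by
  rw [AddEquiv.symm_apply_eq]
  refine Eq.symm ((bcMap_smul B G hV a _).trans ?_)
  exact congrArg _ ((bcEquiv B G hV).apply_symm_apply y)

theorem bcEquiv_symm_res {V W : X.Opens} (hV : IsAffineOpen V) (hW : IsAffineOpen W) (h : W ≤ V)
    (y : Γ(bcMod (A := k) G B, bcπ k X B ⁻¹ᵁ V)) :
    (bcEquiv B G hW).symm (res (bcMod (A := k) G B) ((bcπ k X B).preimage_mono h) y) =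
      (resLin G h).rTensor B ((bcEquiv B G hV).symm y) := by
  rw [AddEquiv.symm_apply_eq]
  refine Eq.symm ((bcMap_res B G hV hW h _).trans ?_)
  exact congrArg _ ((bcEquiv B G hV).apply_symm_apply y)

/-- Contraction by a linear form. -/
def ctr (l : B →ₗ[k] k) (M : Type u) [AddCommGroup M] [Module k M] : M ⊗[k] B →ₗ[k] M :=
  (TensorProduct.rid k M).toLinearMap ∘ₗ l.lTensor M

theorem ctr_tmul (l : B →ₗ[k] k) {M : Type u} [AddCommGroup M] [Module k M] (x : M) (b : B) :
    ctr B l M (x ⊗ₜ b) = l b • x := by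
  simp [ctr]

theorem ctr_rTensor (l : B →ₗ[k] k) {M N : Type u} [AddCommGroup M] [Module k M] [AddCommGroup N] [Module k N]
    (f : M →ₗ[k] N) (z : M ⊗[k] B) : ctr B l N (f.rTensor B z) = f (ctr B l M z) := by
  induction z using TensorProduct.induction_on with
  | zero => simp
  | add x y hx hy => simp only [map_add, hx, hy]
  | tmul x b => simp [ctr_tmul]

variable {G} {F : X.Modules} [F.IsQuasicoherent]
  (φ : bcMod (A := k) F B ⟶ bcMod (A := k) G B) (l : B →ₗ[k] k)

/-- The contraction of a morphism of base changes, on an affine open. -/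
def ctrLin {V : X.Opens} (hV : IsAffineOpen V) : Γ(F, V) →ₗ[Γ(X, V)] Γ(G, V) where
  toFun x := ctr B l _ ((bcEquiv B G hV).symm (φ.app (bcπ k X B ⁻¹ᵁ V) (unitSec (bcπ k X B) F le_rfl x)))
  map_add' x y := by rw [LimTop61.unitSec_add, map_add, map_add, map_add]
  map_smul' a x := by
    rw [LimTop61.unitSec_smul, Scheme.Modules.Hom.app_smul, bcEquiv_symm_smul, ctr_rTensor]
    rfl

theorem ctrLin_res {V W : X.Opens} (hV : IsAffineOpen V) (hW : IsAffineOpen W) (h : W ≤ V) (x : Γ(F, V)) :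
    ctrLin B φ l hW (res F h x) = res G h (ctrLin B φ l hV x) := by
  show ctr B l _ ((bcEquiv B G hW).symm (φ.app _ (unitSec (bcπ k X B) F le_rfl (res F h x)))) = _
  rw [LimTop61.unitSec_res (bcπ k X B) F le_rfl le_rfl h ((bcπ k X B).preimage_mono h), QC70.app_res,
    bcEquiv_symm_res B G hV hW h, ctr_rTensor]
  rfl

theorem compatible_ctrLin :
    HomOn.Compatible (fun V : X.affineOpens => HomOn.ofLinear V.2 (ctrLin B φ l V.2)) := by
  intro i j V hi hj s
  refine section_ext G _ _ fun p hp => ?_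
  obtain ⟨_, ⟨W, hW, rfl⟩, hpW, hWV⟩ := X.isBasis_affineOpens.exists_subset_of_mem_open hp V.isOpen
  refine ⟨W, hWV, hpW, ?_⟩
  rw [← (HomOn.ofLinear i.2 _).app_res hi hWV, ← (HomOn.ofLinear j.2 _).app_res hj hWV]
  have key : ∀ (a : X.affineOpens) (ha : W ≤ a.1) (t : Γ(F, W)),
      (HomOn.ofLinear a.2 (ctrLin B φ l a.2)).app W ha t = ctrLin B φ l hW t := fun a ha t =>
    (HomOn.ext_of_affine_le a.2 (isLocAt_of_isQuasicoherent F a.2) ha
      ((HomOn.ofLinear a.2 (ctrLin B φ l a.2)).mono ha) (HomOn.ofLinear hW (ctrLin B φ l hW)) (fun m => by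
        change (HomOn.ofLinear a.2 (ctrLin B φ l a.2)).app W ha (res F ha m) = _
        rw [(HomOn.ofLinear a.2 (ctrLin B φ l a.2)).app_res le_rfl ha m, HomOn.ofLinear_app_self,
          HomOn.ofLinear_app_self, ctrLin_res B φ l a.2 hW ha]) le_rfl t).trans
      (LinearMap.congr_fun (HomOn.ofLinear_app_self hW _) t)
  rw [key, key]

/-- The contraction of a morphism of base changes by a linear form. -/
def ctrHom : F ⟶ G :=
  (HomOn.glue (compatible_ctrLin B φ l) (iSup_affineOpens_eq_top X).ge).toHom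

theorem ctrHom_app {V : X.Opens} (hV : IsAffineOpen V) (x : Γ(F, V)) :
    (ctrHom B φ l).app V x = ctrLin B φ l hV x := by
  show (HomOn.glue (compatible_ctrLin B φ l) (iSup_affineOpens_eq_top X).ge).toHom.app V x = _
  refine (HomOn.glue_app (compatible_ctrLin B φ l) (iSup_affineOpens_eq_top X).ge le_top
    (⟨V, hV⟩ : X.affineOpens) le_rfl x).trans ?_
  exact LinearMap.congr_fun (HomOn.ofLinear_app_self hV _) x

theorem app_smul_k {M N : X.Modules} (h : M ⟶ N) {V : X.Opens} (r : k) (x : Γ(M, V)) :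
    h.app V (r • x) = r • h.app V x := by
  rw [algebraMap_smul_eq, Scheme.Modules.Hom.app_smul]
  rfl

omit [X.Over (Spec (CommRingCat.of k))] [Algebra k B] in
theorem exists_expansion {I : Type*} [Algebra k B] (b : Module.Basis I k B) (M : Type u) [AddCommGroup M]
    [Module k M] (z : M ⊗[k] B) :
    ∃ T : Finset I, ∀ T' : Finset I, T ⊆ T' → z = ∑ i ∈ T', ctr B (b.coord i) M z ⊗ₜ b i := by
  classical
  induction z using TensorProduct.induction_on with
  | zero => exact ⟨∅, fun _ _ => by simp⟩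
  | tmul x c =>
    refine ⟨(b.repr c).support, fun T' hT => ?_⟩
    simp only [ctr_tmul, Module.Basis.coord_apply, TensorProduct.smul_tmul, ← TensorProduct.tmul_sum]
    conv_lhs => rw [← b.linearCombination_repr c, Finsupp.linearCombination_apply,
      Finsupp.sum_of_support_subset _ hT (fun i r => r • b i) (fun i _ => zero_smul k (b i))]
  | add x y hx hy =>
    obtain ⟨T₁, h₁⟩ := hx
    obtain ⟨T₂, h₂⟩ := hy
    refine ⟨T₁ ∪ T₂, fun T' hT => ?_⟩
    simp only [map_add, TensorProduct.add_tmul, Finset.sum_add_distrib]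
    rw [← h₁ T' (Finset.union_subset_left hT), ← h₂ T' (Finset.union_subset_right hT)]

omit [F.IsQuasicoherent] in
theorem app_bcMap_tmul (ψ : bcMod (A := k) G B ⟶ bcMod (A := k) F B) {V : X.Opens} (hV : IsAffineOpen V)
    (y : Γ(G, V)) (c : B) :
    ψ.app _ (bcMap G B hV rfl (y ⊗ₜ c)) =
      rA B (bc k X B) (bcπ k X B ⁻¹ᵁ V) c •
        ψ.app (bcπ k X B ⁻¹ᵁ V) (unitSec (bcπ k X B) G (le_refl (bcπ k X B ⁻¹ᵁ V)) y) := by
  rw [bcMap_tmul, Scheme.Modules.Hom.app_smul]

/-- A base-changed endomorphism factoring through a base-changed module is a sum of endomorphisms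
factoring through the module. -/
theorem exists_sum_eq_of_comp [Nontrivial B] [CompactSpace X] [G.IsFiniteType] (w : F ⟶ F)
    (ψ : bcMod (A := k) G B ⟶ bcMod (A := k) F B)
    (h : φ ≫ ψ = (Scheme.Modules.pullback (bcπ k X B)).map w) :
    ∃ (n : ℕ) (u : Fin n → (F ⟶ G)) (v : Fin n → (G ⟶ F)), ∑ i, u i ≫ v i = w := by
  classical
  obtain ⟨l, hl⟩ := LinearMap.exists_leftInverse_of_injective (Algebra.linearMap k B)
    (LinearMap.ker_eq_bot.mpr (algebraMap k B).injective)
  have hl1 : l 1 = 1 := by simpa using LinearMap.congr_fun hl 1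
  let b := Module.Free.chooseBasis k B
  obtain ⟨𝒱, h𝒱⟩ := isCompact_univ.elim_finite_subcover (fun V : X.affineOpens => (V.1 : Set X))
    (fun V => V.1.2) fun x _ => Set.mem_iUnion.2 <| by
      obtain ⟨_, ⟨V, hV, rfl⟩, hxV, -⟩ :=
        X.isBasis_affineOpens.exists_subset_of_mem_open (Set.mem_univ x) isOpen_univ
      exact ⟨⟨V, hV⟩, hxV⟩
  have hgen : ∀ V : X.affineOpens, ∃ T : Finset (Module.Free.ChooseBasisIndex k B),
      ∀ T' : Finset _, T ⊆ T' → ∀ y : Γ(G, V.1),
      ψ.app _ (unitSec (bcπ k X B) G le_rfl y) = bcMap F B V.2 rfl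
        (∑ i ∈ T', (ctrHom B ψ (b.coord i)).app V.1 y ⊗ₜ b i) := by
    intro V
    obtain ⟨S, hS⟩ := (finite_sections_of_isFiniteType G V.2).fg_top
    have hx : ∀ y : Γ(G, V.1), ∃ T : Finset (Module.Free.ChooseBasisIndex k B), ∀ T' : Finset _, T ⊆ T' →
        ψ.app _ (unitSec (bcπ k X B) G le_rfl y) = bcMap F B V.2 rfl
          (∑ i ∈ T', (ctrHom B ψ (b.coord i)).app V.1 y ⊗ₜ b i) := fun y => by
      obtain ⟨T, hT⟩ := exists_expansion B b _ ((bcEquiv B F V.2).symm (ψ.app _ (unitSec (bcπ k X B) G le_rfl y)))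
      refine ⟨T, fun T' hT' => ((bcEquiv B F V.2).apply_symm_apply _).symm.trans ?_⟩
      refine congrArg (bcMap F B V.2 rfl) ((hT T' hT').trans ?_)
      simp only [ctrHom_app B ψ _ V.2]
      rfl
    choose T hT using hx
    refine ⟨S.biUnion T, fun T' hT' y => ?_⟩
    have hy : y ∈ Submodule.span Γ(X, V.1) (S : Set Γ(G, V.1)) := hS ▸ Submodule.mem_top
    induction hy using Submodule.span_induction with
    | mem y hy => exact hT y T' ((Finset.subset_biUnion_of_mem T hy).trans hT')
    | zero => simp [LimTop61.unitSec_zero]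
    | add a c _ _ ha hc =>
      simp only [LimTop61.unitSec_add, map_add, ha, hc, TensorProduct.add_tmul, Finset.sum_add_distrib]
    | smul a c _ hc =>
      rw [LimTop61.unitSec_smul, Scheme.Modules.Hom.app_smul, hc, ← bcMap_smul]
      refine congrArg (bcMap F B V.2 rfl) ?_
      simp only [map_sum, LinearMap.rTensor_tmul, Scheme.Modules.Hom.app_smul]
      rfl
  choose T hT using hgen
  let T₀ := 𝒱.biUnion T
  let e := T₀.equivFin.symm
  refine ⟨T₀.card, fun i => ctrHom B φ (l ∘ₗ LinearMap.mulRight k (b (e i).1)),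
    fun i => ctrHom B ψ (b.coord (e i).1), ?_⟩
  rw [← sub_eq_zero]
  have hcov : ⨆ V : 𝒱, V.1.1 = ⊤ := eq_top_iff.2 fun x _ => by
    obtain ⟨V, hV⟩ := Set.mem_iUnion.1 (h𝒱 (Set.mem_univ x))
    obtain ⟨hV𝒱, hxV⟩ := Set.mem_iUnion.1 hV
    exact Opens.mem_iSup.2 ⟨⟨V, hV𝒱⟩, hxV⟩
  refine hom_eq_zero_of_cover _ (fun V : 𝒱 => V.1.1) hcov (fun V => V.1.2)
    (fun V => isLocAt_of_isQuasicoherent F V.1.2) fun V x => ?_
  let W := V.1
  have hz : ∀ z : Γ(G, W.1) ⊗[k] B,
      ctr B l _ ((bcEquiv B F W.2).symm (ψ.app _ (bcMap G B W.2 rfl z))) =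
        ∑ i ∈ T₀, (ctrHom B ψ (b.coord i)).app W.1 (ctr B (l ∘ₗ LinearMap.mulRight k (b i)) _ z) := by
    intro z
    induction z using TensorProduct.induction_on with
    | zero => simp
    | add z z' hz hz' => simp only [map_add, hz, hz', Finset.sum_add_distrib]
    | tmul y c =>
      rw [app_bcMap_tmul, hT W T₀ (Finset.subset_biUnion_of_mem T V.2) y, map_sum, Finset.smul_sum, map_sum, map_sum]
      refine Finset.sum_congr rfl fun i _ => ?_
      rw [ctr_tmul, app_smul_k, bcMap_tmul, smul_smul, ← map_mul, ← bcMap_tmul F B W.2 rfl]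
      exact (congrArg (ctr B l _) ((bcEquiv B F W.2).symm_apply_apply
        ((ctrHom B ψ (b.coord i)).app W.1 y ⊗ₜ (c * b i)))).trans (ctr_tmul B l _ _)
  have h1 : ψ.app _ (φ.app _ (unitSec (bcπ k X B) F (le_refl (bcπ k X B ⁻¹ᵁ W.1)) x)) =
      bcMap F B W.2 rfl (w.app W.1 x ⊗ₜ 1) := by
    rw [bcMap_tmul, map_one, one_smul, ← LimTop61.pullback_map_app_unitSec (bcπ k X B) w le_rfl x, ← h]
    rfl
  have h2 := hz ((bcEquiv B G W.2).symm (φ.app _ (unitSec (bcπ k X B) F le_rfl x)))
  rw [show bcMap G B W.2 rfl ((bcEquiv B G W.2).symm (φ.app _ (unitSec (bcπ k X B) F le_rfl x))) = _ from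
    (bcEquiv B G W.2).apply_symm_apply _, h1] at h2
  replace h2 := (congrArg (ctr B l _) ((bcEquiv B F W.2).symm_apply_apply (w.app W.1 x ⊗ₜ 1))).symm.trans h2
  rw [ctr_tmul, hl1, one_smul] at h2
  have happ : ∀ {J : Type} (t : Finset J) (g : J → (F ⟶ F)),
      (∑ i ∈ t, g i).app W.1 x = ∑ i ∈ t, (g i).app W.1 x := fun t g => by
    induction t using Finset.induction with
    | empty => simp only [Finset.sum_empty]; rfl
    | insert i t hi ih => rw [Finset.sum_insert hi, Finset.sum_insert hi, ← ih]; rfl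
  show (∑ i, _ - w).app W.1 x = 0
  rw [Scheme.Modules.Hom.sub_app]
  show (∑ i, ctrHom B φ _ ≫ ctrHom B ψ _).app W.1 x - w.app W.1 x = 0
  rw [happ, h2, sub_eq_zero, ← Finset.sum_coe_sort T₀]
  exact Fintype.sum_equiv e _ _ fun i => by
    show (ctrHom B ψ _).app W.1 ((ctrHom B φ _).app W.1 x) = _
    rw [ctrHom_app B φ _ W.2]
    rfl

end Groth.Agent.KSchm95

end
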