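import Groth.Agent.QC70.HomCoh
import Groth.Agent.Crv77.Sections
import Groth.Agent.Serre71.Finite
import Mathlib.RingTheory.Artinian.Ring

/-!
The endomorphism ring of a coherent module on a scheme proper over a field is Artinian.
-/

universe u

open CategoryTheory CategoryTheory.Limits AlgebraicGeometry Opposite TopologicalSpace

noncomputable section

namespace Groth.Agent.KSchm95

open QC70

variable {X : Scheme.{u}} {k : Type u} [Field k] [X.Over (Spec (CommRingCat.of k))]

/-- An endomorphism as a class in `H⁰(𝓗om(F, F))`. -/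
def endToHH (F : X.Modules) (φ : End F) : Coh.HH X (homMod F F) 0 :=
  (Crv77.sec (homMod F F)).symm (HomOn.ofHom φ ⊤).toSec

theorem endToHH_injective (F : X.Modules) : Function.Injective (endToHH F) := fun φ ψ h => by
  have h2 : HomOn.ofHom φ ⊤ = HomOn.ofHom ψ ⊤ := (Crv77.sec (homMod F F)).symm.injective h
  refine Scheme.Modules.hom_ext _ _ fun W => ?_
  ext s
  exact congrArg (fun χ : HomOn F F ⊤ => χ.app W le_top s) h2

theorem endToHH_add (F : X.Modules) (φ ψ : End F) : endToHH F (φ + ψ) = endToHH F φ + endToHH F ψ := by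
  rw [endToHH, endToHH, endToHH, ← map_add]
  exact congrArg _ (HomOn.ext' fun W hW s => rfl)

theorem exists_smul_eq (F : X.Modules) (a : k) (φ : End F) :
    ∃ σ : End F, endToHH F (σ * φ) = a • endToHH F φ := by
  let g : Γ(X, ⊤) := Coh.toGlobal (X ↘ Spec (CommRingCat.of k)) a
  refine ⟨HomOn.toHom (g • HomOn.ofHom (𝟙 F) ⊤), (Crv77.sec (homMod F F)).injective ?_⟩
  rw [Crv77.sec_smul k (homMod F F) a]
  simp only [endToHH, AddEquiv.apply_symm_apply]
  exact HomOn.ext' fun W hW s => rfl

theorem isArtinianRing_end [IsProper (X ↘ Spec (CommRingCat.of k))] (F : X.Modules) (hF : Coh.IsCoh F) :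
    IsArtinianRing (End F) := by
  haveI : IsLocallyNoetherian X := LocallyOfFiniteType.isLocallyNoetherian (X ↘ Spec (CommRingCat.of k))
  have : Module.Finite k (Coh.HH X (homMod F F) 0) :=
    Serre71.finite_hh_of_isProper k (homMod F F) (isCoh_homMod hF hF) 0
  let S : Submodule (End F) (End F) → Submodule k (Coh.HH X (homMod F F) 0) := fun I =>
    { carrier := endToHH F '' (I : Set (End F))
      add_mem' := by
        rintro _ _ ⟨x, hx, rfl⟩ ⟨y, hy, rfl⟩
        exact ⟨x + y, add_mem hx hy, endToHH_add F x y⟩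
      zero_mem' := ⟨0, zero_mem _, by simpa using endToHH_add F 0 0⟩
      smul_mem' := by
        rintro a _ ⟨x, hx, rfl⟩
        obtain ⟨σ, hσ⟩ := exists_smul_eq F a x
        exact ⟨σ * x, Submodule.smul_mem I σ hx, hσ⟩ }
  rw [IsArtinianRing, isArtinian_iff]
  exact (OrderEmbedding.ofMapLEIff S fun I J => by
    show endToHH F '' (I : Set (End F)) ⊆ endToHH F '' (J : Set (End F)) ↔ I ≤ J
    rw [Set.image_subset_image_iff (endToHH_injective F)]
    rfl).ltEmbedding.isWellFounded.wf

end Groth.Agent.KSchm95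

end
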