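import Groth.Agent.KSchm95.NoetherDeuring
import Groth.Agent.KSchm95.EndFinite
import Groth.Agent.KSchm95.Descend
import Groth.Prelude.Def_W4c1astiltbs12AS

/-!
Noether–Deuring for coherent modules on a scheme proper over a field.
-/

universe u

open CategoryTheory CategoryTheory.Limits AlgebraicGeometry TopologicalSpace

noncomputable section

namespace Groth.Agent.KSchm95

variable {k : Type u} [Field k] {X : Scheme.{u}}

theorem isCoh_of_retract [IsLocallyNoetherian X] {A F : X.Modules} (i : A ⟶ F) (p : F ⟶ A)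
    (h : i ≫ p = 𝟙 A) (hF : Coh.IsCoh F) : Coh.IsCoh A := by
  let e := 𝟙 F - p ≫ i
  refine QC70.isCoh_of_iso ?_ (QC70.isCoh_kernel e hF hF.1)
  exact
    { hom := kernel.ι e ≫ p
      inv := kernel.lift e i (by simp [e, reassoc_of% h])
      hom_inv_id := by
        rw [← cancel_mono (kernel.ι e), Category.assoc, Category.assoc, kernel.lift_ι, Category.id_comp]
        have h2 : kernel.ι e ≫ e = 0 := kernel.condition e
        rw [Preadditive.comp_sub, Category.comp_id, sub_eq_zero] at h2
        exact h2.symm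
      inv_hom_id := by rw [kernel.lift_ι_assoc]; exact h }

variable (p : X ⟶ Spec (CommRingCat.of k)) [IsProper p] (K : Type u) [Field K] [Algebra k K]

/-- Coherent modules that become isomorphic after a field extension are isomorphic. -/
theorem nonempty_iso_of_bc {F G : X.Modules} (hF : Coh.IsCoh F) (hG : Coh.IsCoh G)
    (e : W4c1astiltbs12.bcMod p K F ≅ W4c1astiltbs12.bcMod p K G) : Nonempty (F ≅ G) := by
  letI : X.Over (Spec (CommRingCat.of k)) := ⟨p⟩
  haveI : IsProper (X ↘ Spec (CommRingCat.of k)) := ‹IsProper p›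
  haveI : IsLocallyNoetherian X := LocallyOfFiniteType.isLocallyNoetherian (X ↘ Spec (CommRingCat.of k))
  haveI : CompactSpace X := QuasiCompact.compactSpace_of_compactSpace p
  haveI : HasFiniteBiproducts X.Modules := HasFiniteBiproducts.of_hasFiniteProducts
  haveI : HasFiniteBiproducts (FF71.bc k X K).Modules := HasFiniteBiproducts.of_hasFiniteProducts
  let Φ := Scheme.Modules.pullback (FF71.bcπ k X K)
  refine noetherDeuring Φ Coh.IsCoh (fun i p h hF => isCoh_of_retract i p h hF)
    (fun F hF => isArtinianRing_end (k := k) F hF) (fun F hF => ?_) (fun {F G} φ ψ hF hG h => ?_) hF hG e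
  · have := hF.1
    have := hF.2
    exact isArtinianRing_end (k := K) (Φ.obj F)
      ⟨QCPull72.isQuasicoherent_pullback _ F, QCPull72.isFiniteType_pullback _ F⟩
  · haveI : F.IsQuasicoherent := hF.1
    haveI : G.IsQuasicoherent := hG.1
    haveI : G.IsFiniteType := hG.2
    exact exists_sum_eq_of_comp K φ (𝟙 F) ψ (h.trans (CategoryTheory.Functor.map_id _ _).symm)

/-- The two ways of forming a finite double power agree. -/
def powSwap {C : Type*} [Category C] [HasZeroMorphisms C] [HasFiniteBiproducts C] (W : C) (r s : ℕ) :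
    (⨁ fun _ : Fin s => ⨁ fun _ : Fin r => W) ≅ ⨁ fun _ : Fin r => ⨁ fun _ : Fin s => W where
  hom := biproduct.desc fun a => biproduct.desc fun b =>
    biproduct.ι (fun _ : Fin s => W) a ≫ biproduct.ι (fun _ : Fin r => ⨁ fun _ : Fin s => W) b
  inv := biproduct.desc fun b => biproduct.desc fun a =>
    biproduct.ι (fun _ : Fin r => W) b ≫ biproduct.ι (fun _ : Fin s => ⨁ fun _ : Fin r => W) a
  hom_inv_id := biproduct.hom_ext' _ _ fun a => biproduct.hom_ext' _ _ fun b => by simp
  inv_hom_id := biproduct.hom_ext' _ _ fun b => biproduct.hom_ext' _ _ fun a => by simp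

/-- Two indecomposables that are both isotypical of the same type after a field extension are isomorphic. -/
theorem nonempty_iso_of_isotypical {E E' : X.Modules} (hE : Coh.IsCoh E) (hE' : Coh.IsCoh E')
    (hEi : Indec E) (hE'i : Indec E') (W : (W4bk4gw11416.baseChange p K).Modules) (r s : ℕ)
    (eE : W4c1astiltbs12.bcMod p K E ≅ W4c1astiltbs12.pow W r)
    (eE' : W4c1astiltbs12.bcMod p K E' ≅ W4c1astiltbs12.pow W s) : Nonempty (E ≅ E') := by
  letI : X.Over (Spec (CommRingCat.of k)) := ⟨p⟩
  haveI : IsProper (X ↘ Spec (CommRingCat.of k)) := ‹IsProper p›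
  haveI : IsLocallyNoetherian X := LocallyOfFiniteType.isLocallyNoetherian (X ↘ Spec (CommRingCat.of k))
  haveI : HasFiniteBiproducts X.Modules := HasFiniteBiproducts.of_hasFiniteProducts
  haveI : HasFiniteBiproducts (W4bk4gw11416.baseChange p K).Modules := HasFiniteBiproducts.of_hasFiniteProducts
  let Φ := Scheme.Modules.pullback (W4c1astiltbs12.proj p K)
  have hs : ∀ (F : X.Modules) (n : ℕ), Coh.IsCoh F → Coh.IsCoh (⨁ fun _ : Fin n => F) := fun F n h =>
    QC70.isCoh_biproduct _ fun _ => h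
  let eW : ∀ (F : X.Modules) (n m : ℕ), (Φ.obj F ≅ W4c1astiltbs12.pow W n) →
      (Φ.obj (⨁ fun _ : Fin m => F) ≅ ⨁ fun _ : Fin m => ⨁ fun _ : Fin n => W) := fun F n m e =>
    Φ.mapBiproduct (fun _ : Fin m => F) ≪≫
      biproduct.mapIso fun _ => e ≪≫ (biproduct.isoCoproduct fun _ : Fin n => W).symm
  have hpos : ∀ (F : X.Modules) (n : ℕ), Coh.IsCoh F → Indec F → (Φ.obj F ≅ W4c1astiltbs12.pow W n) → 0 < n := by
    intro F n hF hI e
    refine Nat.pos_of_ne_zero fun h0 => hI.1 ?_
    subst h0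
    have hz : ∀ (Y : Scheme.{u}) [HasFiniteBiproducts Y.Modules] (f : Fin 0 → Y.Modules), IsZero (⨁ f) :=
      fun Y _ f => (IsZero.iff_id_eq_zero _).mpr (biproduct.hom_ext _ _ fun k => k.elim0)
    obtain ⟨e'⟩ := nonempty_iso_of_bc p K hF (hs F 0 hF) (e ≪≫ (biproduct.isoCoproduct _).symm ≪≫
      (hz _ _).iso (Functor.map_isZero Φ (hz _ _)))
    exact (hz _ _).of_iso e'
  obtain ⟨e⟩ := nonempty_iso_of_bc p K (hs E s hE) (hs E' r hE')
    (eW E r s eE ≪≫ powSwap W r s ≪≫ (eW E' s r eE').symm)
  haveI := isArtinianRing_end (k := k) E hE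
  obtain ⟨σ, hσ⟩ := exists_equiv s r (fun _ => E) (fun _ => E') (fun _ => hEi) (fun _ => ‹_›) (fun _ => hE'i) e
  exact hσ ⟨0, hpos E' s hE' hE'i eE'⟩

end Groth.Agent.KSchm95

end
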