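import Groth.Agent.KSchm95.Basic
import Mathlib.CategoryTheory.Preadditive.AdditiveFunctor

/-!
Cancellation and Noether–Deuring descent in abelian categories.
-/

universe w v w' v'

open CategoryTheory CategoryTheory.Limits

noncomputable section

namespace Groth.Agent.KSchm95

section Cancel

variable {C : Type w} [Category.{v} C] [Abelian C] [HasFiniteBiproducts C]

theorem exists_isUnit_of_sum_eq_one {F : C} [IsLocalRing (End F)] {ι : Type*} (t : Finset ι) (g : ι → (F ⟶ F))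
    (h : ∑ i ∈ t, g i = 𝟙 F) : ∃ i ∈ t, IsIso (g i) := by
  by_contra hno
  push Not at hno
  have : (∑ i ∈ t, End.of (g i)) ∈ nonunits (End F) :=
    Finset.sum_induction _ (· ∈ nonunits (End F)) (fun x y hx hy hxy =>
      (IsLocalRing.isUnit_or_isUnit_of_isUnit_add hxy).elim hx hy) not_isUnit_zero fun i hi hu =>
        hno i hi ((isUnit_iff_isIso (g i)).mp hu)
  exact this ((show (∑ i ∈ t, End.of (g i)) = 1 from h) ▸ isUnit_one)

theorem cancel_indec {A B B' : C} (hA : Indec A) [IsArtinianRing (End A)] (φ : A ⊞ B ≅ A ⊞ B') :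
    Nonempty (B ≅ B') := by
  have := isLocalRing_end hA
  let a := biprod.inl ≫ φ.hom ≫ biprod.fst
  let c := biprod.inl ≫ φ.hom ≫ biprod.snd
  let a' := biprod.inl ≫ φ.inv ≫ biprod.fst
  let c' := biprod.inr ≫ φ.inv ≫ biprod.fst
  by_cases ha : IsIso a
  · exact ⟨Biprod.isoElim φ⟩
  have hsum : a ≫ a' + c ≫ c' = 𝟙 A := by
    simp only [a, a', c, c', Category.assoc]
    rw [← Preadditive.comp_add, ← Preadditive.comp_add, ← Category.assoc biprod.fst,
      ← Category.assoc biprod.snd, ← Preadditive.add_comp, biprod.total, Category.id_comp,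
      φ.hom_inv_id_assoc, biprod.inl_fst]
  have hna : ¬ IsIso (a ≫ a') := fun h => ha (isIso_of_indec hA.1 hA a (a' ≫ inv (a ≫ a'))
    (by rw [← Category.assoc, IsIso.hom_inv_id]))
  have hc : IsIso (c ≫ c') := by
    rcases IsLocalRing.isUnit_or_isUnit_of_add_one (R := End A)
      (a := End.of (a ≫ a')) (b := End.of (c ≫ c')) hsum with h | h
    · exact absurd ((isUnit_iff_isIso _).mp h) hna
    · exact (isUnit_iff_isIso _).mp h
  let eB : B' ≅ A ⊞ kernel (c' ≫ inv (c ≫ c')) := splitIso c (c' ≫ inv (c ≫ c')) (by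
    rw [← Category.assoc, IsIso.hom_inv_id])
  let K := kernel (c' ≫ inv (c ≫ c'))
  let swap : A ⊞ (A ⊞ K) ≅ A ⊞ (A ⊞ K) :=
    { hom := biprod.lift (biprod.snd ≫ biprod.fst) (biprod.lift biprod.fst (biprod.snd ≫ biprod.snd))
      inv := biprod.lift (biprod.snd ≫ biprod.fst) (biprod.lift biprod.fst (biprod.snd ≫ biprod.snd))
      hom_inv_id := by ext <;> simp
      inv_hom_id := by ext <;> simp }
  let ψ : A ⊞ B ≅ A ⊞ (A ⊞ K) := φ ≪≫ biprod.mapIso (Iso.refl A) eB ≪≫ swap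
  have : IsIso (biprod.inl ≫ ψ.hom ≫ biprod.fst) := by
    have e : biprod.inl ≫ ψ.hom ≫ biprod.fst = c ≫ c' ≫ inv (c ≫ c') := by
      simp only [ψ, swap, biprod.mapIso, Iso.trans_hom, Category.assoc, biprod.lift_fst, biprod.map_snd_assoc]
      erw [biprod.map_snd_assoc]
      simp only [c, Category.assoc, eB, splitIso]
      erw [biprod.lift_fst]
    rw [e, ← Category.assoc, IsIso.hom_inv_id]
    infer_instance
  exact ⟨Biprod.isoElim ψ ≪≫ eB.symm⟩

/-- Reassociating a split-off summand. -/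
def assocIso (A B K : C) : (A ⊞ K) ⊞ B ≅ A ⊞ (K ⊞ B) where
  hom := biprod.lift (biprod.fst ≫ biprod.fst) (biprod.lift (biprod.fst ≫ biprod.snd) biprod.snd)
  inv := biprod.lift (biprod.lift biprod.fst (biprod.snd ≫ biprod.fst)) (biprod.snd ≫ biprod.snd)

theorem cancel_biproduct : ∀ (n : ℕ) (As : Fin n → C) (B B' : C), (∀ i, Indec (As i)) →
    (∀ i, IsArtinianRing (End (As i))) → ((⨁ As) ⊞ B ≅ (⨁ As) ⊞ B') → Nonempty (B ≅ B') := by
  intro n
  induction n with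
  | zero =>
    intro As B B' _ _ φ
    have h0 : IsZero (⨁ As) := (IsZero.iff_id_eq_zero _).mpr (biproduct.hom_ext _ _ fun k => k.elim0)
    have e : ∀ B : C, (⨁ As) ⊞ B ≅ B := fun B =>
      { hom := biprod.snd
        inv := biprod.inr
        hom_inv_id := biprod.hom_ext _ _ (h0.eq_of_tgt _ _) (by simp) }
    exact ⟨(e B).symm ≪≫ φ ≪≫ e B'⟩
  | succ n ih =>
    intro As B B' hI hA φ
    have := hA 0
    obtain ⟨e⟩ := cancel_indec (hI 0) ((assocIso _ B _).symm ≪≫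
      biprod.mapIso (peelIso As 0).symm (Iso.refl B) ≪≫ φ ≪≫
      biprod.mapIso (peelIso As 0) (Iso.refl B') ≪≫ assocIso _ B' _)
    exact ih _ B B' (fun i => hI _) (fun i => hA _) e

theorem cancel {A B B' : C} [IsArtinianRing (End A)] (φ : A ⊞ B ≅ A ⊞ B') : Nonempty (B ≅ B') := by
  obtain ⟨n, As, hI, ⟨e⟩⟩ := exists_decomp A
  exact cancel_biproduct n As B B' hI
    (fun i => isArtinianRing_end_of_retract (biproduct.ι As i ≫ e.inv) (e.hom ≫ biproduct.π As i) (by simp))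
    (biprod.mapIso e.symm (Iso.refl B) ≪≫ φ ≪≫ biprod.mapIso e (Iso.refl B'))

end Cancel

variable {C : Type w} [Category.{v} C] [Abelian C] [HasFiniteBiproducts C]
  {D : Type w'} [Category.{v'} D] [Abelian D] [HasFiniteBiproducts D] (Φ : C ⥤ D) [Φ.Additive]
  (Q : C → Prop) (hret : ∀ {A F : C} (i : A ⟶ F) (p : F ⟶ A), i ≫ p = 𝟙 A → Q F → Q A)
  (hA : ∀ F, Q F → IsArtinianRing (End F)) (hA' : ∀ F, Q F → IsArtinianRing (End (Φ.obj F)))
  (hsum : ∀ {F G : C} (φ : Φ.obj F ⟶ Φ.obj G) (ψ : Φ.obj G ⟶ Φ.obj F), Q F → Q G → φ ≫ ψ = 𝟙 _ →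
    ∃ (n : ℕ) (u : Fin n → (F ⟶ G)) (v : Fin n → (G ⟶ F)), ∑ i, u i ≫ v i = 𝟙 F)

include hret hA hA' hsum in
theorem noetherDeuring_biproduct : ∀ (n : ℕ) (Fs : Fin n → C) (G : C), (∀ i, Indec (Fs i)) → Q (⨁ Fs) → Q G →
    (Φ.obj (⨁ Fs) ≅ Φ.obj G) → Nonempty ((⨁ Fs) ≅ G) := by
  intro n
  induction n with
  | zero =>
    intro Fs G _ hF hG φ
    have h0 : IsZero (⨁ Fs) := (IsZero.iff_id_eq_zero _).mpr (biproduct.hom_ext _ _ fun k => k.elim0)
    obtain ⟨m, u, v, huv⟩ := hsum φ.inv φ.hom hG hF φ.inv_hom_id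
    have hG0 : IsZero G := (IsZero.iff_id_eq_zero G).mpr <| huv ▸ Finset.sum_eq_zero fun i _ => by
      rw [h0.eq_of_tgt (u i) 0, zero_comp]
    exact ⟨h0.iso hG0⟩
  | succ n ih =>
    intro Fs G hI hF hG φ
    let p : (⨁ Fs) ⟶ Fs 0 := biproduct.π Fs 0
    let i : Fs 0 ⟶ ⨁ Fs := biproduct.ι Fs 0
    have hip : i ≫ p = 𝟙 _ := biproduct.ι_π_self Fs 0
    have := hA _ (hret i p hip hF)
    have := isLocalRing_end (hI 0)
    obtain ⟨m, u, v, huv⟩ := hsum φ.hom φ.inv hF hG φ.hom_inv_id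
    obtain ⟨j, -, hj⟩ := exists_isUnit_of_sum_eq_one Finset.univ (fun j => i ≫ u j ≫ v j ≫ p)
      (by rw [← Preadditive.comp_sum]; simp_rw [← Category.assoc (u _)]
          rw [← Preadditive.sum_comp, huv, Category.id_comp, hip])
    let r := v j ≫ p ≫ inv (i ≫ u j ≫ v j ≫ p)
    have hr : (i ≫ u j) ≫ r = 𝟙 _ := by
      have := IsIso.hom_inv_id (i ≫ u j ≫ v j ≫ p)
      simpa only [r, Category.assoc] using this
    let eG : G ≅ Fs 0 ⊞ kernel r := splitIso (i ≫ u j) r hr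
    let eF := peelIso Fs 0
    have hK : Q (kernel r) := hret (biprod.inr ≫ eG.inv) (eG.hom ≫ biprod.snd) (by simp) hG
    have hF' : Q (⨁ fun k => Fs (Fin.succAbove 0 k)) :=
      hret (biprod.inr ≫ eF.inv) (eF.hom ≫ biprod.snd) (by simp) hF
    have : PreservesBinaryBiproducts Φ := preservesBinaryBiproducts_of_preservesBiproducts Φ
    have := hA' _ (hret i p hip hF)
    obtain ⟨e⟩ := cancel ((Φ.mapBiprod _ _).symm ≪≫ Φ.mapIso eF.symm ≪≫ φ ≪≫ Φ.mapIso eG ≪≫ Φ.mapBiprod _ _)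
    obtain ⟨e'⟩ := ih _ _ (fun k => hI _) hF' hK e
    exact ⟨eF ≪≫ biprod.mapIso (Iso.refl _) e' ≪≫ eG.symm⟩

include hret hA hA' hsum in
/-- Noether–Deuring. -/
theorem noetherDeuring {F G : C} (hF : Q F) (hG : Q G) (φ : Φ.obj F ≅ Φ.obj G) : Nonempty (F ≅ G) := by
  have := hA F hF
  obtain ⟨n, Fs, hI, ⟨e⟩⟩ := exists_decomp F
  obtain ⟨e'⟩ := noetherDeuring_biproduct Φ Q hret hA hA' hsum n Fs G hI
    (hret e.inv e.hom e.inv_hom_id hF) hG (Φ.mapIso e.symm ≪≫ φ)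
  exact ⟨e ≪≫ e'⟩

end Groth.Agent.KSchm95

end
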